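import Mathlib
import Groth.Agent.FlatDescent.Global
import Groth.Agent.FlatDescent.Criterion

/-! Flatness is fibrewise projectivity for finitely presented modules. -/

namespace Groth.Agent.FibProj

open TensorProduct Groth.FlatDescent

universe u

theorem flat_iff (A B M : Type u) [CommRing A] [CommRing B] [Algebra A B]
    [Algebra.FinitePresentation A B] [AddCommGroup M] [Module B M] [Module A M]
    [IsScalarTower A B M] [Module.FinitePresentation B M] [Module.Flat A M] :
    Module.Flat B M ↔ ∀ (p : Ideal A) [p.IsPrime],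
      Module.Projective (B ⊗[A] p.ResidueField) ((B ⊗[A] p.ResidueField) ⊗[B] M) := by
  constructor
  · intro h p _
    haveI : Module.Projective B M := Module.Flat.projective_of_finitePresentation
    infer_instance
  intro h
  refine flat_of_flatAt (P := B) fun Q _ => ?_
  refine flat_fibre_criterion_fp A B (C := B) Q (flatAt_of_flat Q) ?_
  set p := Q.comap (algebraMap A B) with hp
  haveI : p.IsPrime := Ideal.IsPrime.comap _
  haveI := h p
  set pB := p.map (algebraMap A B) with hpB
  let BQ := Localization.AtPrime Q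
  let L := (B ⧸ pB) ⊗[B] BQ
  let κ := p.ResidueField
  -- `L` receives the fibre ring
  let fA : A →ₐ[A] L := Algebra.ofId A L
  have h0 : p ≤ RingHom.ker fA := fun a ha => by
    rw [RingHom.mem_ker]
    show algebraMap A L a = 0
    rw [IsScalarTower.algebraMap_apply A B L, Algebra.TensorProduct.algebraMap_apply,
      Ideal.Quotient.algebraMap_eq, Ideal.Quotient.eq_zero_iff_mem.mpr (Ideal.mem_map_of_mem _ ha),
      TensorProduct.zero_tmul]
  have hu : p.primeCompl ≤ (IsUnit.submonoid L).comap fA := fun a ha => by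
    show IsUnit (algebraMap A L a)
    have h1 : IsUnit (algebraMap B BQ (algebraMap A B a)) :=
      IsLocalization.map_units BQ (⟨algebraMap A B a, ha⟩ : Q.primeCompl)
    have h2 := h1.map (Algebra.TensorProduct.includeRight : BQ →ₐ[B] L)
    rwa [AlgHom.commutes, ← IsScalarTower.algebraMap_apply] at h2
  let ψ : B ⊗[A] κ →ₐ[B] L := Algebra.TensorProduct.lift (Algebra.ofId B L)
    (Ideal.ResidueField.liftₐ p fA h0 hu) fun _ _ => Commute.all _ _
  letI : Algebra (B ⊗[A] κ) L := ψ.toRingHom.toAlgebra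
  haveI : IsScalarTower B (B ⊗[A] κ) L := IsScalarTower.of_algebraMap_eq fun b => (ψ.commutes b).symm
  haveI : Module.Flat L (L ⊗[B ⊗[A] κ] ((B ⊗[A] κ) ⊗[B] M)) := inferInstance
  haveI hLM : Module.Flat L (L ⊗[B] M) := Module.Flat.of_linearEquiv
    (AlgebraTensorModule.cancelBaseChange B (B ⊗[A] κ) L L M).symm
  haveI : Module.Flat (B ⧸ pB) (L ⊗[B] M) := Module.Flat.trans (B ⧸ pB) L (L ⊗[B] M)
  let e1 : (L ⊗[B] M) ≃ₗ[B ⧸ pB] (B ⧸ pB) ⊗[B] (BQ ⊗[B] M) :=
    AlgebraTensorModule.assoc B B (B ⧸ pB) (B ⧸ pB) BQ M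
  let e2 : (BQ ⊗[B] M) ≃ₗ[B] LocalizedModule Q.primeCompl M :=
    (IsLocalizedModule.isBaseChange Q.primeCompl BQ
      (LocalizedModule.mkLinearMap Q.primeCompl M)).equiv.restrictScalars B
  let e3 : (L ⊗[B] M) ≃ₗ[B] LocalizedModule Q.primeCompl M ⧸
      (pB • (⊤ : Submodule B (LocalizedModule Q.primeCompl M))) :=
    (e1.restrictScalars B).trans
      ((TensorProduct.congr (LinearEquiv.refl B (B ⧸ pB)) e2).trans
        (TensorProduct.quotTensorEquivQuotSMul _ pB))
  exact Module.Flat.of_linearEquiv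
    (e3.extendScalarsOfSurjective Ideal.Quotient.mk_surjective).symm

end Groth.Agent.FibProj
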